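import Cfsg.Agent.DL.Uni.Sys

/-!
# Scalar products over subgroups, linear characters, Fourier expansion (helper3)
-/

set_option autoImplicit false

namespace Cfsg.Agent.DL.Uni

open Cfsg Cfsg.Agent.Nodes.Reps Cfsg.Agent.Characters.Core
open scoped ComplexConjugate

universe u

variable {Γ : Type u} [Group Γ] {H K : Subgroup Γ}

@[simp] theorem res_apply (f : Γ → ℂ) (h : H) : res H f h = f h := rfl

theorem ip_eq_sum [Fintype H] (f g : Γ → ℂ) : ip H f g = (Nat.card H : ℂ)⁻¹ * ∑ h : H, f h * conj (g h) := by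
  unfold ip
  rw [finsum_eq_sum_of_fintype]

theorem ip_eq_classInner [Fintype H] (f g : Γ → ℂ) : ip H f g = classInner (res H f) (res H g) := by
  rw [ip_eq_sum]
  rfl

theorem finsum_cond {ι : Type*} [Fintype ι] (P : ι → Prop) [DecidablePred P] (F : ι → ℂ) :
    ∑ᶠ (i : ι) (_ : P i), F i = ∑ i, if P i then F i else 0 := by
  rw [finsum_eq_sum_of_fintype]
  exact Finset.sum_congr rfl fun i _ => finsum_eq_if

theorem card_ne_zero (H : Subgroup Γ) [Finite H] : (Nat.card H : ℂ) ≠ 0 := by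
  exact_mod_cast (Nat.card_pos (α := H)).ne'

theorem ip_congr {f f' g g' : Γ → ℂ} (hf : ∀ h ∈ H, f h = f' h) (hg : ∀ h ∈ H, g h = g' h) :
    ip H f g = ip H f' g' := by
  unfold ip
  congr 1
  exact finsum_congr fun h => by rw [hf h h.2, hg h h.2]

theorem ip_conj (f g : Γ → ℂ) [Finite H] : conj (ip H f g) = ip H g f := by
  have := Fintype.ofFinite H
  rw [ip_eq_classInner, ip_eq_classInner, classInner_conj_symm]

theorem ip_smul_left (c : ℂ) (f g : Γ → ℂ) [Finite H] : ip H (c • f) g = c * ip H f g := by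
  have := Fintype.ofFinite H
  rw [ip_eq_classInner, ip_eq_classInner, ← classInner_smul_left]
  rfl

theorem ip_smul_right (c : ℂ) (f g : Γ → ℂ) [Finite H] : ip H f (c • g) = conj c * ip H f g := by
  have := Fintype.ofFinite H
  rw [ip_eq_classInner, ip_eq_classInner, ← classInner_smul_right]
  rfl

theorem ip_add_left (f f' g : Γ → ℂ) [Finite H] : ip H (f + f') g = ip H f g + ip H f' g := by
  have := Fintype.ofFinite H
  rw [ip_eq_classInner, ip_eq_classInner, ip_eq_classInner, ← classInner_add_left]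
  rfl

theorem ip_add_right (f g g' : Γ → ℂ) [Finite H] : ip H f (g + g') = ip H f g + ip H f g' := by
  have := Fintype.ofFinite H
  rw [ip_eq_classInner, ip_eq_classInner, ip_eq_classInner, ← classInner_add_right]
  rfl

theorem ip_sub_left (f f' g : Γ → ℂ) [Finite H] : ip H (f - f') g = ip H f g - ip H f' g := by
  have := Fintype.ofFinite H
  rw [ip_eq_classInner, ip_eq_classInner, ip_eq_classInner, ← classInner_sub_left]
  rfl

theorem ip_sub_right (f g g' : Γ → ℂ) [Finite H] : ip H f (g - g') = ip H f g - ip H f g' := by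
  have := Fintype.ofFinite H
  rw [ip_eq_classInner, ip_eq_classInner, ip_eq_classInner, ← classInner_sub_right]
  rfl

theorem ip_zero_left (g : Γ → ℂ) : ip H 0 g = 0 := by
  unfold ip
  simp

theorem ip_zero_right (f : Γ → ℂ) : ip H f 0 = 0 := by
  unfold ip
  simp

theorem ip_sum_left {ι : Type*} (s : Finset ι) (f : ι → Γ → ℂ) (g : Γ → ℂ) [Finite H] :
    ip H (∑ i ∈ s, f i) g = ∑ i ∈ s, ip H (f i) g := by
  classical
  induction s using Finset.induction_on with
  | empty => simp [ip_zero_left]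
  | insert a s ha ih => rw [Finset.sum_insert ha, Finset.sum_insert ha, ip_add_left, ih]

theorem ip_sum_right {ι : Type*} (s : Finset ι) (f : Γ → ℂ) (g : ι → Γ → ℂ) [Finite H] :
    ip H f (∑ i ∈ s, g i) = ∑ i ∈ s, ip H f (g i) := by
  classical
  induction s using Finset.induction_on with
  | empty => simp [ip_zero_right]
  | insert a s ha ih => rw [Finset.sum_insert ha, Finset.sum_insert ha, ip_add_right, ih]

theorem eq_zero_of_ip_self [Finite H] {f : Γ → ℂ} (hf : ip H f f = 0) : ∀ h ∈ H, f h = 0 := by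
  have := Fintype.ofFinite H
  rw [ip_eq_classInner] at hf
  intro h hh
  exact congrFun (classInner_self_eq_zero hf) ⟨h, hh⟩

theorem ip_self_eq [Fintype H] (f : Γ → ℂ) :
    ip H f f = (((Nat.card H : ℝ)⁻¹ * ∑ h : H, ‖f h‖ ^ 2 : ℝ) : ℂ) := by
  rw [ip_eq_sum]
  push_cast
  congr 1
  exact Finset.sum_congr rfl fun h _ => by rw [Complex.mul_conj, Complex.normSq_eq_norm_sq]; push_cast; rfl

theorem ip_self_nonneg [Finite H] (f : Γ → ℂ) : ∃ r : ℝ, 0 ≤ r ∧ ip H f f = r := by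
  have := Fintype.ofFinite H
  exact ⟨_, by positivity, ip_self_eq f⟩

theorem ip_mul_left (φ f g : Γ → ℂ) : ip H (φ * f) g = ip H f (star φ * g) := by
  unfold ip
  congr 1
  refine finsum_congr fun h => ?_
  simp only [Pi.mul_apply, Pi.star_apply, map_mul, RCLike.star_def, Complex.conj_conj]
  ring

theorem ip_one_one [Finite H] : ip H 1 1 = 1 := by
  have := Fintype.ofFinite H
  rw [ip_eq_sum]
  simp only [Pi.one_apply, map_one, mul_one, Finset.sum_const, Finset.card_univ, nsmul_eq_mul]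
  rw [← Nat.card_eq_fintype_card, inv_mul_cancel₀ (card_ne_zero H)]

/-- the indicator function of one element -/
noncomputable def dl (t : Γ) : Γ → ℂ := Set.indicator {t} 1

theorem dl_self (t : Γ) : dl t t = 1 := by simp [dl]

theorem dl_ne {t x : Γ} (h : x ≠ t) : dl t x = 0 := by simp [dl, h]

theorem dl_apply [DecidableEq Γ] (t x : Γ) : dl t x = if x = t then 1 else 0 := by
  split_ifs with h
  · rw [h, dl_self]
  · exact dl_ne h

theorem ip_dl_right [Finite H] (f : Γ → ℂ) {t : Γ} (ht : t ∈ H) : ip H f (dl t) = (Nat.card H : ℂ)⁻¹ * f t := by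
  have := Fintype.ofFinite H
  rw [ip_eq_sum, Finset.sum_eq_single (⟨t, ht⟩ : H)]
  · simp [dl_self]
  · intro b _ hb
    rw [dl_ne (fun e => hb (Subtype.ext e)), map_zero, mul_zero]
  · intro h
    exact absurd (Finset.mem_univ _) h

theorem ip_dl_left [Finite H] (g : Γ → ℂ) {t : Γ} (ht : t ∈ H) :
    ip H (dl t) g = (Nat.card H : ℂ)⁻¹ * conj (g t) := by
  rw [← ip_conj, ip_dl_right g ht]
  simp

theorem eq_sum_dl [Fintype K] (f : Γ → ℂ) : ∀ x ∈ K, f x = (∑ t : K, f t • dl (t : Γ)) x := by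
  intro x hx
  rw [Finset.sum_apply, Finset.sum_eq_single (⟨x, hx⟩ : K)]
  · simp [dl_self]
  · intro b _ hb
    rw [Pi.smul_apply, dl_ne (fun e => hb (Subtype.ext e.symm)), smul_zero]
  · intro h
    exact absurd (Finset.mem_univ _) h

theorem ext_of_ip [Finite K] {f g : Γ → ℂ} (h : ∀ φ, ip K φ f = ip K φ g) : ∀ x ∈ K, f x = g x := by
  intro x hx
  have h1 := h (dl x)
  rw [ip_dl_left _ hx, ip_dl_left _ hx] at h1
  have h2 := mul_left_cancel₀ (inv_ne_zero (card_ne_zero K)) h1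
  simpa using congrArg conj h2

/-! ### class functions -/

theorem isCls_iff {f : Γ → ℂ} : IsCls H f ↔ IsClassFunction H (res H f) :=
  ⟨fun hf g h => hf g g.2 h h.2, fun hf g hg h hh => hf ⟨g, hg⟩ ⟨h, hh⟩⟩

theorem IsCls.congr {f g : Γ → ℂ} (hf : IsCls H f) (e : ∀ h ∈ H, f h = g h) : IsCls H g := fun x hx h hh => by
  rw [← e x hx, ← e _ (H.mul_mem (H.mul_mem hh hx) (H.inv_mem hh)), hf x hx h hh]

theorem IsCls.conj' {f : Γ → ℂ} (hf : IsCls H f) {g h : Γ} (hg : g ∈ H) (hh : h ∈ H) : f (h⁻¹ * g * h) = f g := by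
  have := hf g hg h⁻¹ (H.inv_mem hh)
  rwa [inv_inv] at this

theorem IsCls.mul {f g : Γ → ℂ} (hf : IsCls H f) (hg : IsCls H g) : IsCls H (f * g) := fun x hx h hh => by
  rw [Pi.mul_apply, Pi.mul_apply, hf x hx h hh, hg x hx h hh]

theorem IsCls.smul {f : Γ → ℂ} (c : ℂ) (hf : IsCls H f) : IsCls H (c • f) := fun x hx h hh => by
  rw [Pi.smul_apply, Pi.smul_apply, hf x hx h hh]

theorem IsCls.sub {f g : Γ → ℂ} (hf : IsCls H f) (hg : IsCls H g) : IsCls H (f - g) := fun x hx h hh => by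
  rw [Pi.sub_apply, Pi.sub_apply, hf x hx h hh, hg x hx h hh]

theorem IsCls.add {f g : Γ → ℂ} (hf : IsCls H f) (hg : IsCls H g) : IsCls H (f + g) := fun x hx h hh => by
  rw [Pi.add_apply, Pi.add_apply, hf x hx h hh, hg x hx h hh]

theorem IsCls.star {f : Γ → ℂ} (hf : IsCls H f) : IsCls H (star f) := fun x hx h hh => by
  rw [Pi.star_apply, Pi.star_apply, hf x hx h hh]

theorem isCls_const (c : ℂ) : IsCls H (fun _ => c) := fun _ _ _ _ => rfl

theorem isCls_one : IsCls H 1 := fun _ _ _ _ => rfl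

theorem isCls_sum {ι : Type*} (s : Finset ι) {f : ι → Γ → ℂ} (hf : ∀ i ∈ s, IsCls H (f i)) :
    IsCls H (∑ i ∈ s, f i) := fun x hx h hh => by
  rw [Finset.sum_apply, Finset.sum_apply]
  exact Finset.sum_congr rfl fun i hi => hf i hi x hx h hh

theorem isCls_dl_one : IsCls H (dl 1) := fun x _ h _ => by
  by_cases hx : x = 1
  · rw [hx, mul_one, mul_inv_cancel]
  · rw [dl_ne hx, dl_ne]
    intro e
    apply hx
    have : x = h⁻¹ * (h * x * h⁻¹) * h := by group
    rw [this, e, mul_one, inv_mul_cancel]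

theorem isCls_of_gen {f : Γ → ℂ} (hf : IsGeneralizedCharacter H (res H f)) : IsCls H f := by
  obtain ⟨χ, ψ, h1, h2, e⟩ := hf
  rw [isCls_iff, e]
  intro g h
  rw [Pi.sub_apply, Pi.sub_apply, isCharacter_isClassFunction h1 g h, isCharacter_isClassFunction h2 g h]

theorem isCls_of_irr {f : Γ → ℂ} (hf : IsIrrCharacter H (res H f)) : IsCls H f :=
  isCls_iff.2 (isIrr_isClassFunction hf)

/-- invariance of the scalar product under conjugation -/
theorem ip_cj (h : Γ) (f g : Γ → ℂ) :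
    ip (cj h K) f g = ip K (fun t => f (h * t * h⁻¹)) (fun t => g (h * t * h⁻¹)) := by
  let e : K ≃ cj h K := (K.equivMapOfInjective (MulAut.conj h).toMonoidHom (MulAut.conj h).injective).toEquiv
  unfold ip
  rw [← Nat.card_congr e, ← finsum_comp_equiv e]
  rfl

theorem card_cj (h : Γ) (K : Subgroup Γ) : Nat.card (cj h K) = Nat.card K :=
  (Nat.card_congr (K.equivMapOfInjective (MulAut.conj h).toMonoidHom (MulAut.conj h).injective).toEquiv).symm

theorem cj_inf {h : Γ} (hh : h ∈ H) (T : Subgroup Γ) : cj h T ⊓ H = cj h (T ⊓ H) := by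
  ext x
  rw [Subgroup.mem_inf, mem_cj, mem_cj, Subgroup.mem_inf]
  refine and_congr_right fun _ => ⟨fun hx => H.mul_mem (H.mul_mem (H.inv_mem hh) hx) hh, fun hx => ?_⟩
  have : x = h * (h⁻¹ * x * h) * h⁻¹ := by group
  rw [this]
  exact H.mul_mem (H.mul_mem hh hx) (H.inv_mem hh)

theorem card_cj_inf {h : Γ} (hh : h ∈ H) (T : Subgroup Γ) : Nat.card ↥(cj h T ⊓ H) = Nat.card ↥(T ⊓ H) := by
  rw [cj_inf hh, card_cj]

theorem finite_inf (T : Subgroup Γ) [Finite H] : Finite ↥(T ⊓ H) :=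
  Finite.of_injective (Subgroup.inclusion (inf_le_right : T ⊓ H ≤ H)) (Subgroup.inclusion_injective _)

/-! ### linear characters -/

/-- a homomorphism `K →* ℂˣ` as a function on `Γ` -/
noncomputable def lin (θ : K →* ℂˣ) : Γ → ℂ := extendByZero K fun k => (θ k : ℂ)

theorem lin_apply (θ : K →* ℂˣ) {k : Γ} (hk : k ∈ K) : lin θ k = θ ⟨k, hk⟩ := extendByZero_of_mem K _ hk

theorem lin_coe (θ : K →* ℂˣ) (k : K) : lin θ k = θ k := lin_apply θ k.2

theorem isLin_lin (θ : K →* ℂˣ) : IsLin K (lin θ) where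
  one := by
    rw [lin_apply θ K.one_mem]
    exact congrArg Units.val (map_one θ)
  mul a ha b hb := by
    rw [lin_apply θ ha, lin_apply θ hb, lin_apply θ (K.mul_mem ha hb), ← Units.val_mul, ← map_mul]
    rfl

theorem isLin_one : IsLin K 1 := ⟨rfl, fun _ _ _ _ => (mul_one _).symm⟩

theorem IsLin.mul' {θ θ' : Γ → ℂ} (h : IsLin K θ) (h' : IsLin K θ') : IsLin K (θ * θ') where
  one := by rw [Pi.mul_apply, h.one, h'.one, mul_one]
  mul a ha b hb := by
    rw [Pi.mul_apply, Pi.mul_apply, Pi.mul_apply, h.mul a ha b hb, h'.mul a ha b hb]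
    ring

theorem IsLin.mul_inv {θ : Γ → ℂ} (h : IsLin K θ) {k : Γ} (hk : k ∈ K) : θ k * θ k⁻¹ = 1 := by
  rw [← h.mul k hk k⁻¹ (K.inv_mem hk), mul_inv_cancel, h.one]

theorem IsLin.ne_zero {θ : Γ → ℂ} (h : IsLin K θ) {k : Γ} (hk : k ∈ K) : θ k ≠ 0 :=
  left_ne_zero_of_mul_eq_one (h.mul_inv hk)

theorem IsLin.mono {θ : Γ → ℂ} {K' : Subgroup Γ} (h : IsLin K θ) (hK : K' ≤ K) : IsLin K' θ :=
  ⟨h.one, fun a ha b hb => h.mul a (hK ha) b (hK hb)⟩

/-- the homomorphism of a linear character -/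
noncomputable def IsLin.hom {θ : Γ → ℂ} (h : IsLin K θ) : K →* ℂˣ where
  toFun k := Units.mk0 (θ k) (h.ne_zero k.2)
  map_one' := Units.ext h.one
  map_mul' a b := Units.ext (h.mul a a.2 b b.2)

theorem IsLin.lin_hom {θ : Γ → ℂ} (h : IsLin K θ) : ∀ k ∈ K, lin h.hom k = θ k := fun k hk => by
  rw [lin_apply _ hk]
  rfl

theorem lin_mul (θ θ' : K →* ℂˣ) : ∀ k ∈ K, lin (θ * θ') k = lin θ k * lin θ' k := fun k hk => by
  rw [lin_apply _ hk, lin_apply _ hk, lin_apply _ hk]
  rfl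

theorem lin_one : ∀ k ∈ K, lin (1 : K →* ℂˣ) k = 1 := fun k hk => by
  rw [lin_apply _ hk]
  rfl

theorem conj_hom [Finite K] (θ : K →* ℂˣ) (k : K) : conj (θ k : ℂ) = ((θ k)⁻¹ : ℂˣ) := by
  have h1 : ‖(θ k : ℂ)‖ = 1 := by
    have h2 : (θ k : ℂ) ^ Nat.card K = 1 := by
      rw [← Units.val_pow_eq_pow_val, ← map_pow, pow_card_eq_one', map_one, Units.val_one]
    exact Complex.norm_eq_one_of_pow_eq_one h2 (Nat.card_pos (α := K)).ne'
  rw [Units.val_inv_eq_inv_val, Complex.inv_def, Complex.normSq_eq_norm_sq, h1]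
  simp

theorem IsLin.conj_apply [Finite K] {θ : Γ → ℂ} (h : IsLin K θ) {k : Γ} (hk : k ∈ K) : conj (θ k) = θ k⁻¹ := by
  have h1 := conj_hom h.hom ⟨k, hk⟩
  rw [← map_inv] at h1
  exact h1

theorem IsLin.mul_conj [Finite K] {θ : Γ → ℂ} (h : IsLin K θ) {k : Γ} (hk : k ∈ K) : θ k * conj (θ k) = 1 := by
  rw [h.conj_apply hk, h.mul_inv hk]

theorem IsLin.star [Finite K] {θ : Γ → ℂ} (h : IsLin K θ) : IsLin K (star θ) where
  one := by rw [Pi.star_apply, h.one, star_one]
  mul a ha b hb := by rw [Pi.star_apply, Pi.star_apply, Pi.star_apply, h.mul a ha b hb, star_mul']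

theorem ip_lin_lin [Finite K] [DecidableEq (K →* ℂˣ)] (θ θ' : K →* ℂˣ) :
    ip K (lin θ) (lin θ') = if θ = θ' then 1 else 0 := by
  have := Fintype.ofFinite K
  rw [ip_eq_sum]
  have e : ∀ k : K, lin θ k * conj (lin θ' k) = ((Units.coeHom ℂ).comp (θ * θ'⁻¹)) k := fun k => by
    rw [lin_coe, lin_coe, conj_hom]
    simp
  split_ifs with h
  · subst h
    rw [Finset.sum_congr rfl fun (k : K) _ => (isLin_lin θ).mul_conj k.2]
    simp only [Finset.sum_const, Finset.card_univ, nsmul_eq_mul, mul_one]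
    rw [← Nat.card_eq_fintype_card, inv_mul_cancel₀ (card_ne_zero K)]
  · rw [Finset.sum_congr rfl fun k _ => e k, sum_hom_units_eq_zero, mul_zero]
    intro e1
    apply h
    ext k
    have h2 := DFunLike.congr_fun e1 k
    have h3 : (θ k : ℂ) * ((θ' k)⁻¹ : ℂˣ) = 1 := h2
    rw [← Units.val_mul, Units.val_eq_one, mul_inv_eq_one] at h3
    rw [h3]

section Comm

variable (hc : ∀ a ∈ K, ∀ b ∈ K, a * b = b * a)

/-- the commutative group structure -/
@[reducible] def commGrp : CommGroup K :=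
  { (inferInstance : Group K) with mul_comm := fun a b => Subtype.ext (hc a a.2 b b.2) }

theorem finite_hom (K : Subgroup Γ) [Finite K] : Finite (K →* ℂˣ) := by
  have hK : Nat.card K ≠ 0 := (Nat.card_pos (α := K)).ne'
  have : NeZero (Nat.card K) := ⟨hK⟩
  let f : (K →* ℂˣ) → (K → rootsOfUnity (Nat.card K) ℂ) := fun θ k =>
    ⟨θ k, by rw [mem_rootsOfUnity, ← map_pow, pow_card_eq_one', map_one]⟩
  refine Finite.of_injective f fun θ θ' e => ?_
  ext k
  exact congrArg (fun x : rootsOfUnity (Nat.card K) ℂ => ((x : ℂˣ) : ℂ)) (congrFun e k)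

include hc

theorem card_hom [Finite K] : Nat.card (K →* ℂˣ) = Nat.card K := by
  let _ := commGrp hc
  have : NeZero (Monoid.exponent K) := ⟨Monoid.exponent_ne_zero_of_finite⟩
  exact CommGroup.card_monoidHom_of_hasEnoughRootsOfUnity K ℂ

theorem exists_hom_ne_one [Finite K] {k : K} (hk : k ≠ 1) : ∃ θ : K →* ℂˣ, θ k ≠ 1 := by
  let _ := commGrp hc
  have : NeZero (Monoid.exponent K) := ⟨Monoid.exponent_ne_zero_of_finite⟩
  exact CommGroup.exists_apply_ne_one_of_hasEnoughRootsOfUnity K ℂ hk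

theorem sum_lin [Finite K] [Fintype (K →* ℂˣ)] : ∀ k ∈ K, ∑ θ : K →* ℂˣ, lin θ k = Nat.card K * dl 1 k := by
  intro k hk
  by_cases h1 : k = 1
  · subst h1
    rw [Finset.sum_congr rfl fun θ _ => (isLin_lin θ).one, dl_self]
    simp only [Finset.sum_const, Finset.card_univ, nsmul_eq_mul, mul_one]
    rw [← Nat.card_eq_fintype_card, card_hom hc]
  · rw [dl_ne h1, mul_zero]
    let ev : (K →* ℂˣ) →* ℂ :=
      { toFun := fun θ => θ ⟨k, hk⟩, map_one' := rfl, map_mul' := fun _ _ => rfl }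
    have e : ∀ θ : K →* ℂˣ, lin θ k = ev θ := fun θ => lin_apply θ hk
    rw [Finset.sum_congr rfl fun θ _ => e θ]
    apply sum_hom_units_eq_zero
    obtain ⟨θ, hθ⟩ := exists_hom_ne_one hc (k := ⟨k, hk⟩) fun e => h1 (congrArg Subtype.val e)
    intro e1
    apply hθ
    exact Units.ext (DFunLike.congr_fun e1 θ)

/-- Fourier expansion on an abelian subgroup -/
theorem fourier [Finite K] [Fintype (K →* ℂˣ)] (f : Γ → ℂ) :
    ∀ k ∈ K, f k = (∑ θ : K →* ℂˣ, ip K f (lin θ) • lin θ) k := by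
  intro k hk
  have := Fintype.ofFinite K
  rw [Finset.sum_apply]
  have e : ∀ θ : K →* ℂˣ, (ip K f (lin θ) • lin θ) k =
      (Nat.card K : ℂ)⁻¹ * ∑ t : K, f t * lin θ ((t : Γ)⁻¹ * k) := fun θ => by
    rw [Pi.smul_apply, smul_eq_mul, ip_eq_sum, mul_assoc, Finset.sum_mul]
    congr 1
    refine Finset.sum_congr rfl fun t _ => ?_
    rw [(isLin_lin θ).mul _ (K.inv_mem t.2) k hk, (isLin_lin θ).conj_apply t.2, mul_assoc]
  rw [Finset.sum_congr rfl fun θ _ => e θ, ← Finset.mul_sum, Finset.sum_comm]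
  have e2 : ∀ t : K, ∑ θ : K →* ℂˣ, f t * lin θ ((t : Γ)⁻¹ * k) = f t * (Nat.card K * dl 1 ((t : Γ)⁻¹ * k)) :=
    fun t => by rw [← Finset.mul_sum, sum_lin hc _ (K.mul_mem (K.inv_mem t.2) hk)]
  rw [Finset.sum_congr rfl fun t _ => e2 t, Finset.sum_eq_single (⟨k, hk⟩ : K)]
  · rw [inv_mul_cancel, dl_self]
    field_simp [card_ne_zero K]
  · intro b _ hb
    rw [dl_ne, mul_zero, mul_zero]
    intro e3
    exact hb (Subtype.ext (inv_mul_eq_one.1 e3))
  · intro h
    exact absurd (Finset.mem_univ _) h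

/-- Parseval -/
theorem parseval [Finite K] [Fintype (K →* ℂˣ)] (f g : Γ → ℂ) :
    ip K f g = ∑ θ : K →* ℂˣ, ip K f (lin θ) * conj (ip K g (lin θ)) := by
  rw [ip_congr (fourier hc f) (fun _ _ => rfl), ip_sum_left]
  exact Finset.sum_congr rfl fun θ _ => by rw [ip_smul_left, ip_conj]

end Comm

end Cfsg.Agent.DL.Uni
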