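import Cfsg.Agent.DL.Uni.Gp

/-!
# Consequences of the character formula (helper3)
-/

set_option autoImplicit false

namespace Cfsg.Agent.DL.Uni

open Cfsg Cfsg.Agent.Nodes.Reps Cfsg.Agent.Characters.Core
open scoped ComplexConjugate

universe u

variable {Γ : Type u} [Group Γ] {p : ℕ} {H : Subgroup Γ} {A : Set (Subgroup Γ)}
  {R : Subgroup Γ → (Γ → ℂ) →ₗ[ℂ] (Γ → ℂ)} {St : Γ → ℂ} {s : Γ} {C : Subgroup Γ}
  {RC : Subgroup Γ → (Γ → ℂ) →ₗ[ℂ] (Γ → ℂ)} {StC : Γ → ℂ}

/-- Green functions: orthogonality -/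
theorem Sys.green_orth [Fact p.Prime] (S : Sys p H A R) {T T' : Subgroup Γ} (hT : T ∈ A) (hT' : T' ∈ A) :
    ip H (uniI p * R T 1) (uniI p * R T' 1) =
      (Nat.card {h : H // cj (h : Γ) T = T'} : ℂ) / (Nat.card ↥(T ⊓ H) * Nat.card ↥(T ⊓ H)) := by
  classical
  have := S.finH
  have := S.finT T
  have := Fintype.ofFinite H
  rw [ip_congr (f := uniI p * R T 1) (g := uniI p * R T' 1) (S.uniI_mul_R hT) (S.uniI_mul_R hT'), S.orth_sum hT hT',
    Nat.card_eq_fintype_card (α := {h : H // _}), Fintype.card_subtype, Finset.card_filter, Nat.cast_sum,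
    div_eq_inv_mul, mul_inv, mul_assoc]
  congr 1
  rw [Finset.mul_sum]
  refine Finset.sum_congr rfl fun h _ => ?_
  split_ifs
  · rw [ip_dl_left _ (T ⊓ H).one_mem, mul_one, mul_inv_cancel, dl_self, map_one, Nat.cast_one]
  · rw [Nat.cast_zero, mul_zero]

namespace Cent

variable (S : Sys p H A R) (Z : Cent p H A R s C RC)
include Z

theorem inf_eq {T : Subgroup Γ} (hT : T ∈ A) (hs : s ∈ T) : T ⊓ C = T ⊓ H :=
  le_antisymm (inf_le_inf_left T Z.le) (le_inf inf_le_left (Z.tor T hT hs))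

open Classical in
theorem tori_eq : Z.sys.tori = S.tori.filter fun T => s ∈ T := by
  ext T
  rw [Sys.mem_tori, Finset.mem_filter, Sys.mem_tori]
  rfl

open Classical in
theorem formula_sum [Fintype H] {T : Subgroup Γ} (hT : T ∈ A) (f : Γ → ℂ) {u : Γ} (hu : u ∈ C) (huu : IsUni p u) :
    R T f (s * u) = (Nat.card C : ℂ)⁻¹ *
      ∑ x : H, if s ∈ cj (x : Γ) T then f ((x : Γ)⁻¹ * s * x) * RC (cj (x : Γ) T) 1 u else 0 := by
  rw [Z.formula T hT f u hu huu, finsum_cond]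

include S

/-- the character formula for the uniform function of an equivariant family -/
theorem usum_mul (hs : s ∈ H) {φ : Subgroup Γ → Γ → ℂ} (hφ : Eqv H A φ) {u : Γ} (hu : u ∈ C) (huu : IsUni p u) :
    usum H A R φ (s * u) = usum C {T | T ∈ A ∧ s ∈ T} RC (fun T _ => φ T s) u := by
  classical
  have := S.finH
  have := Fintype.ofFinite H
  let G : Subgroup Γ → ℂ := fun T => if s ∈ T then (Nat.card ↥(T ⊓ H) : ℂ) * (φ T s * RC T 1 u) else 0
  have e : ∀ T ∈ S.tori, (wt H T : ℂ) * R T (φ T) (s * u) =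
      (Nat.card H : ℂ)⁻¹ * ((Nat.card C : ℂ)⁻¹ * ∑ x : H, G (cj (x : Γ) T)) := fun T hT => by
    have hT := S.mem_tori.1 hT
    rw [Z.formula_sum hT _ hu huu, wt_coe, div_eq_inv_mul, mul_assoc, mul_left_comm (Nat.card ↥(T ⊓ H) : ℂ),
      Finset.mul_sum]
    congr 2
    refine Finset.sum_congr rfl fun x _ => ?_
    simp only [G]
    split_ifs with h
    · have h1 := hφ x x.2 T hT ((x : Γ)⁻¹ * s * x)
        ⟨mem_cj.1 h, H.mul_mem (H.mul_mem (H.inv_mem x.2) hs) x.2⟩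
      rw [show (x : Γ) * ((x : Γ)⁻¹ * s * x) * (x : Γ)⁻¹ = s by group] at h1
      rw [card_cj_inf x.2, h1]
    · rw [mul_zero]
  rw [S.usum_apply, Finset.sum_congr rfl e, ← Finset.mul_sum, ← Finset.mul_sum, Finset.sum_comm,
    Finset.sum_congr rfl fun (x : H) _ => S.sum_tori_cj x.2 G, Finset.sum_const, Finset.card_univ, nsmul_eq_mul,
    ← Nat.card_eq_fintype_card, mul_left_comm, ← mul_assoc (Nat.card H : ℂ)⁻¹, inv_mul_cancel₀ S.cardH_ne, one_mul,
    Z.sys.usum_apply, Z.tori_eq S, Finset.sum_filter, Finset.mul_sum]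
  refine Finset.sum_congr rfl fun T hT => ?_
  simp only [G]
  split_ifs with h
  · rw [wt_coe, Z.inf_eq (S.mem_tori.1 hT) h,
      show (fun _ : Γ => φ T s) = φ T s • (1 : Γ → ℂ) from funext fun _ => (mul_one _).symm, map_smul,
      Pi.smul_apply, smul_eq_mul]
    ring
  · rw [mul_zero]

theorem pr_mul (hs : s ∈ H) (f : Γ → ℂ) {u : Γ} (hu : u ∈ C) (huu : IsUni p u) :
    pr H A R f (s * u) = usum C {T | T ∈ A ∧ s ∈ T} RC (fun T _ => rst H R T f s) u :=
  Z.usum_mul S hs (S.eqv_rst f) hu huu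

omit S in
theorem eqv_const {φ : Subgroup Γ → Γ → ℂ} (hφ : Eqv H A φ) (hs : s ∈ H) :
    Eqv C {T | T ∈ A ∧ s ∈ T} fun T _ => φ T s := fun h hh T hT _ _ => by
  have h1 := hφ h (Z.le hh) T hT.1 s ⟨hT.2, hs⟩
  rwa [Z.cent h hh, mul_inv_cancel_right] at h1

variable [hp : Fact p.Prime] (D : StD p H A R St) (DC : StD p C {T | T ∈ A ∧ s ∈ T} RC StC)
include D DC

/-- the value of the Steinberg character at a semisimple element -/
theorem st_eq (hs : s ∈ H) {T : Subgroup Γ} (hT : T ∈ A) (hsT : s ∈ T) :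
    St s = eps H R St T * eps C RC StC T * pc p C := by
  have hss := S.ss T hT s ⟨hsT, hs⟩
  have h1 : ∀ c ∈ C, (uniI p * usum C {T | T ∈ A ∧ s ∈ T} RC (fun T _ => eps H R St T) : Γ → ℂ) c =
      (St s • dl (1 : Γ) : Γ → ℂ) c :=
    fun c hc => by
      rw [Pi.mul_apply, Pi.smul_apply, smul_eq_mul]
      by_cases hu : IsUni p c
      · rw [uniI_of_uni hu, one_mul, ← Z.usum_mul S hs S.eqv_eps hc hu,
          ← D.st_eq_usum S _ (H.mul_mem hs (Z.le hc))]
        by_cases h : c = 1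
        · rw [h, mul_one, dl_self, mul_one]
        · rw [dl_ne h, mul_zero]
          exact D.eq_zero S (H.mul_mem hs (Z.le hc)) fun e =>
            h ((IsJ.mk hss hu (Z.cent c hc).symm rfl).isSs_iff.1 e)
      · rw [uniI_of_not hu, zero_mul, dl_ne fun e : c = 1 => hu (e ▸ isUni_one), mul_zero]
  have h2 := congrFun (rst_congr (R := RC) (T := T) h1) 1
  have hT' : T ∈ {T | T ∈ A ∧ s ∈ T} := ⟨hT, hsT⟩
  rw [Z.sys.rst_mul hT' pconst_uniI, Z.sys.rst_usum (Z.eqv_const S.eqv_eps hs) hT' 1 (T ⊓ C).one_mem,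
    Z.sys.rst_smul, Pi.smul_apply, DC.rst_dl_one Z.sys hT' 1 (T ⊓ C).one_mem, uniI_of_uni isUni_one, dl_self,
    one_mul, mul_one, smul_eq_mul] at h2
  have h3 := DC.eps_mul_self Z.sys hT'
  have h4 := pc_ne (p := p) C
  rw [h2]
  field_simp
  linear_combination (-St s) * h3

open Classical in
/-- the values of a class function on semisimple elements -/
theorem apply_ss (hs : s ∈ H) (hss : IsSs p s) {f : Γ → ℂ} (hf : IsCls H f) :
    f s = (pc p C : ℂ)⁻¹ * ∑ T ∈ S.tori with s ∈ T, eps C RC StC T * rst H R T f s := by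
  have h1 := D.mul_st_eq S hf s hs
  have h2 := D.ne_zero S hs hss
  apply mul_right_cancel₀ h2
  rw [h1, Finset.mul_sum, Finset.sum_mul]
  refine Finset.sum_congr rfl fun T hT => ?_
  obtain ⟨hT, hsT⟩ := Finset.mem_filter.1 hT
  have hT := S.mem_tori.1 hT
  have h3 := DC.eps_mul_self Z.sys (⟨hT, hsT⟩ : T ∈ {T | T ∈ A ∧ s ∈ T})
  have h4 := pc_ne (p := p) C
  rw [Z.st_eq S D DC hs hT hsT]
  field_simp
  linear_combination (-(eps H R St T * rst H R T f s)) * h3

end Cent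

end Cfsg.Agent.DL.Uni
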