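import Cfsg.Agent.DL.Uni.Jordan
import Cfsg.Agent.Characters.DefectZero

/-!
# The Steinberg character: signs, degrees, the regular character (helper3)
-/

set_option autoImplicit false

namespace Cfsg.Agent.DL.Uni

open Cfsg Cfsg.Agent.Nodes.Reps Cfsg.Agent.Characters.Core
open scoped ComplexConjugate

universe u

variable {Γ : Type u} [Group Γ] {p : ℕ} {H : Subgroup Γ} {A : Set (Subgroup Γ)}
  {R : Subgroup Γ → (Γ → ℂ) →ₗ[ℂ] (Γ → ℂ)} {St : Γ → ℂ}

/-- the sign of the torus `T` -/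
noncomputable def eps (H : Subgroup Γ) (R : Subgroup Γ → (Γ → ℂ) →ₗ[ℂ] (Γ → ℂ)) (St : Γ → ℂ) (T : Subgroup Γ) : ℂ :=
  ip H St (R T 1)

/-- the `p`-part of the order -/
noncomputable def pc (p : ℕ) (H : Subgroup Γ) : ℕ := p ^ (Nat.card H).factorization p

/-- the `p'`-part of the order -/
noncomputable def pc' (p : ℕ) (H : Subgroup Γ) : ℕ := Nat.card H / p ^ (Nat.card H).factorization p

theorem pc_mul_pc' (p : ℕ) (H : Subgroup Γ) : pc p H * pc' p H = Nat.card H :=
  Nat.ordProj_mul_ordCompl_eq_self _ _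

theorem pc_ne [hp : Fact p.Prime] (H : Subgroup Γ) : (pc p H : ℂ) ≠ 0 := by
  exact_mod_cast pow_ne_zero _ hp.out.ne_zero

theorem not_dvd_pc' [hp : Fact p.Prime] (H : Subgroup Γ) [Finite H] : ¬ p ∣ pc' p H :=
  Nat.not_dvd_ordCompl hp.out (Nat.card_pos (α := H)).ne'

theorem ip_irr_self [Finite H] {χ : Γ → ℂ} (hχ : IsIrrCharacter H (res H χ)) : ip H χ χ = 1 := by
  have := Fintype.ofFinite H
  rw [ip_eq_classInner, classInner_irr_self hχ]

theorem ip_gen_int [Finite H] {f g : Γ → ℂ} (hf : IsGeneralizedCharacter H (res H f))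
    (hg : IsGeneralizedCharacter H (res H g)) : ∃ k : ℤ, ip H f g = k := by
  have := Fintype.ofFinite H
  obtain ⟨a, b, ha, hb, e⟩ := hf
  obtain ⟨c, d, hc, hd, e'⟩ := hg
  obtain ⟨n1, h1⟩ := classInner_isNat ha hc
  obtain ⟨n2, h2⟩ := classInner_isNat ha hd
  obtain ⟨n3, h3⟩ := classInner_isNat hb hc
  obtain ⟨n4, h4⟩ := classInner_isNat hb hd
  refine ⟨n1 - n2 - (n3 - n4), ?_⟩
  rw [ip_eq_classInner, e, e', classInner_sub_left, classInner_sub_right, classInner_sub_right, h1, h2, h3, h4]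
  push_cast
  rfl

theorem gen_of_char {G : Type u} [Group G] {χ : G → ℂ} (h : IsCharacter G χ) : IsGeneralizedCharacter G χ :=
  ⟨χ, 0, h, isCharacter_zero, (sub_zero χ).symm⟩

theorem gen_of_irr {G : Type u} [Group G] {χ : G → ℂ} (h : IsIrrCharacter G χ) : IsGeneralizedCharacter G χ :=
  gen_of_char (isIrr_isCharacter h)

/-- an irreducible character of `p`-defect zero vanishes on the `p`-singular elements -/
theorem irr_eq_zero [hp : Fact p.Prime] [Finite H] {χ : Γ → ℂ} (hχ : IsIrrCharacter H (res H χ)) {d : ℕ}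
    (hd : χ 1 = (pc p H * d : ℕ)) {g : Γ} (hg : g ∈ H) (hs : ¬ IsSs p g) : χ g = 0 := by
  have := Fintype.ofFinite H
  obtain ⟨n, ρ, hρ, e⟩ := hχ
  have h1 : (n : ℂ) = (pc p H * d : ℕ) := by
    rw [← hd]
    have := congrFun e 1
    rw [Representation.char_one] at this
    simpa using this
  have h2 : n = pc p H * d := by exact_mod_cast h1
  have h3 := Characters.DefectZero.character_inv_eq_zero ρ hρ p ((Nat.card H).factorization p) hp.out
    (Nat.ordProj_dvd _ _) (Nat.pow_succ_factorization_not_dvd (Nat.card_pos (α := H)).ne' hp.out)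
    (by rw [Module.finrank_fin_fun, h2]; exact dvd_mul_right _ _) (⟨g, hg⟩⁻¹ : H)
    (by rw [orderOf_inv, ← Subgroup.orderOf_coe]; exact not_not.1 hs)
  rw [inv_inv, e] at h3
  exact h3

theorem ip_sub_const [Finite H] (g : Γ → ℂ) :
    ip H g g = ip H (g - ip H g 1 • 1) (g - ip H g 1 • 1) + ip H g 1 * conj (ip H g 1) := by
  rw [ip_sub_left, ip_sub_right, ip_sub_right, ip_smul_left, ip_smul_left, ip_smul_right, ip_smul_right, ip_one_one,
    ← ip_conj g 1]
  ring

namespace Sys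

variable (S : Sys p H A R)
include S

theorem eps_cj {T : Subgroup Γ} (hT : T ∈ A) {h : Γ} (hh : h ∈ H) : eps H R St (cj h T) = eps H R St T :=
  ip_congr (fun _ _ => rfl) (S.R_conj hT hh 1)

theorem eqv_eps : Eqv H A fun T _ => eps H R St T := fun _ hh _ hT _ _ => S.eps_cj hT hh

/-- An irreducible character whose multiplicities in all `R T 1` are nonzero is uniform, the multiplicities are
signs and the restrictions are constant. -/
theorem bessel_st (h1 : ip H St St = 1) (hodd : ∀ T ∈ A, ∃ k : ℤ, k ≠ 0 ∧ ip H St (R T 1) = k) :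
    IsUnif H A R St ∧ ∀ T ∈ A, (eps H R St T = 1 ∨ eps H R St T = -1) ∧
      ∀ t ∈ T ⊓ H, rst H R T St t = eps H R St T := by
  have := S.finH
  choose! k hk0 hk using hodd
  have hd : ∀ T ∈ A, ∃ d : ℝ, 0 ≤ d ∧ ip (T ⊓ H) (rst H R T St - (k T : ℂ) • 1) (rst H R T St - (k T : ℂ) • 1) = d :=
    fun T _ => by
      have := S.finT T
      exact ip_self_nonneg _
  choose! d hd0 hd using hd
  have hn : ∀ T ∈ S.tori, (wt H T : ℂ) * ip (T ⊓ H) (rst H R T St) (rst H R T St) =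
      ((wt H T * (d T + (k T) ^ 2) : ℝ) : ℂ) := fun T hT => by
    have := S.finT T
    have hT := S.mem_tori.1 hT
    rw [ip_sub_const, ← S.ip_rst hT, hk T hT, hd T hT]
    push_cast
    rw [map_intCast]
    ring
  have hpr : ip H (pr H A R St) (pr H A R St) = ((∑ T ∈ S.tori, wt H T * (d T + (k T) ^ 2) : ℝ) : ℂ) := by
    rw [S.ip_pr_pr, Finset.sum_congr rfl hn, Complex.ofReal_sum]
  have hk1 : ∀ T ∈ A, (1 : ℝ) ≤ (k T) ^ 2 := fun T hT => by
    have : (1 : ℤ) ≤ k T ^ 2 := Int.add_one_le_of_lt (sq_pos_of_ne_zero (hk0 T hT))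
    exact_mod_cast this
  have hb := S.bessel St
  rw [hpr, h1, Complex.ofReal_re, Complex.one_re] at hb
  have hz : ∑ T ∈ S.tori, wt H T * (d T + ((k T) ^ 2 - 1)) = ∑ T ∈ S.tori, wt H T * (d T + (k T) ^ 2) - 1 := by
    have e : ∀ T ∈ S.tori, wt H T * (d T + ((k T) ^ 2 - 1)) = wt H T * (d T + (k T) ^ 2) - wt H T :=
      fun T _ => by ring
    rw [Finset.sum_congr rfl e, Finset.sum_sub_distrib, S.sum_wt]
  have hnn : ∀ T ∈ S.tori, 0 ≤ wt H T * (d T + ((k T) ^ 2 - 1)) := fun T hT =>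
    mul_nonneg (wt_nonneg H T) (add_nonneg (hd0 T (S.mem_tori.1 hT)) (sub_nonneg.2 (hk1 T (S.mem_tori.1 hT))))
  have hs0 := Finset.sum_nonneg hnn
  have hs : ∑ T ∈ S.tori, wt H T * (d T + ((k T) ^ 2 - 1)) = 0 := by linarith
  refine ⟨S.unif_of_norm ?_, fun T hT => ?_⟩
  · rw [hpr, h1, Complex.ofReal_re, Complex.one_re]
    linarith
  · have := S.finT T
    have h2 := (Finset.sum_eq_zero_iff_of_nonneg hnn).1 hs T (S.mem_tori.2 hT)
    have h3 := (mul_eq_zero.1 h2).resolve_left (S.wt_pos T).ne'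
    have h4 := hd0 T hT
    have h5 := hk1 T hT
    have h6 : d T = 0 := by linarith
    have h7 : (k T : ℝ) ^ 2 = 1 := by linarith
    have h8 : k T ^ 2 = 1 := by exact_mod_cast h7
    refine ⟨?_, fun t ht => ?_⟩
    · rw [eps, hk T hT]
      rcases mul_self_eq_one_iff.mp ((pow_two _).symm.trans h8) with h | h <;> simp [h]
    · have h9 := hd T hT
      rw [h6, Complex.ofReal_zero] at h9
      have h10 := eq_zero_of_ip_self h9 t ht
      rw [Pi.sub_apply, sub_eq_zero] at h10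
      rw [h10, eps, hk T hT]
      simp

end Sys

namespace StD

variable (S : Sys p H A R) (D : StD p H A R St)
include S D

theorem ip_self : ip H St St = 1 :=
  have := S.finH
  ip_irr_self D.irr

theorem unif : IsUnif H A R St := (S.bessel_st (D.ip_self S) D.odd).1

theorem eps_sign {T : Subgroup Γ} (hT : T ∈ A) : eps H R St T = 1 ∨ eps H R St T = -1 :=
  ((S.bessel_st (D.ip_self S) D.odd).2 T hT).1

theorem rst_st {T : Subgroup Γ} (hT : T ∈ A) : ∀ t ∈ T ⊓ H, rst H R T St t = eps H R St T :=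
  ((S.bessel_st (D.ip_self S) D.odd).2 T hT).2

theorem eps_mul_self {T : Subgroup Γ} (hT : T ∈ A) : eps H R St T * eps H R St T = 1 := by
  rcases D.eps_sign S hT with h | h <;> simp [h]

theorem conj_eps {T : Subgroup Γ} (hT : T ∈ A) : conj (eps H R St T) = eps H R St T := by
  rcases D.eps_sign S hT with h | h <;> simp [h]

theorem eps_ne {T : Subgroup Γ} (hT : T ∈ A) : eps H R St T ≠ 0 := left_ne_zero_of_mul_eq_one (D.eps_mul_self S hT)

theorem st_eq_usum : ∀ h ∈ H, St h = usum H A R (fun T _ => eps H R St T) h :=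
  S.unif_eq_usum (D.unif S) fun _ hT => D.rst_st S hT

omit S in
theorem cls : IsCls H St := isCls_of_irr D.irr

omit S in
theorem deg' : St 1 = pc p H := D.deg

variable [hp : Fact p.Prime]

theorem eq_zero {g : Γ} (hg : g ∈ H) (hs : ¬ IsSs p g) : St g = 0 :=
  have := S.finH
  irr_eq_zero D.irr (d := 1) (by rw [mul_one]; exact D.deg) hg hs

/-- only the values on semisimple elements matter in a product with `St` -/
theorem mul_st (ψ : Γ → ℂ) : ∀ g ∈ H, ψ g * St g = psp p ψ g * St g := fun g hg => by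
  by_cases hs : IsSs p g
  · rw [psp_of_ss _ hs]
  · rw [D.eq_zero S hg hs, mul_zero, mul_zero]

theorem unif_mul_st {ψ : Γ → ℂ} (hψ : IsCls H ψ) : IsUnif H A R (ψ * St) :=
  have := S.finH
  (S.unif_mul (pconst_psp hψ) (D.unif S)).congr fun h hh => (D.mul_st S ψ h hh).symm

theorem rst_mul_st {ψ : Γ → ℂ} (hψ : IsCls H ψ) {T : Subgroup Γ} (hT : T ∈ A) :
    ∀ t ∈ T ⊓ H, rst H R T (ψ * St) t = ψ t * eps H R St T := fun t ht => by
  have := S.finH
  rw [rst_congr (f := ψ * St) (g := psp p ψ * St) (D.mul_st S ψ), S.rst_mul hT (pconst_psp hψ), psp_of_ss _ (S.ss T hT t ht),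
    D.rst_st S hT t ht]

omit S in
theorem dl_one_eq : ∀ g ∈ H, dl 1 g = ((pc p H : ℂ)⁻¹ • (dl 1 * St) : Γ → ℂ) g := fun g _ => by
  by_cases h : g = 1
  · rw [h, Pi.smul_apply, Pi.mul_apply, dl_self, D.deg', one_mul, smul_eq_mul, inv_mul_cancel₀ (pc_ne H)]
  · rw [Pi.smul_apply, Pi.mul_apply, dl_ne h, zero_mul, smul_zero]

/-- the regular character is uniform -/
theorem unif_dl_one : IsUnif H A R (dl 1) :=
  (S.unif_smul _ (D.unif_mul_st S isCls_dl_one)).congr fun h hh => (D.dl_one_eq h hh).symm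

theorem rst_dl_one {T : Subgroup Γ} (hT : T ∈ A) :
    ∀ t ∈ T ⊓ H, rst H R T (dl 1) t = (pc p H : ℂ)⁻¹ * eps H R St T * dl 1 t := fun t ht => by
  rw [rst_congr (D.dl_one_eq), S.rst_smul, Pi.smul_apply, D.rst_mul_st S isCls_dl_one hT t ht, smul_eq_mul]
  ring

/-- the degree formula -/
theorem degree {T : Subgroup Γ} (hT : T ∈ A) (f : Γ → ℂ) :
    R T f 1 = eps H R St T * pc' p H / Nat.card ↥(T ⊓ H) * f 1 := by
  have := S.finH
  have := S.finT T
  have h1 := S.ip_rst' hT f (dl 1)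
  rw [ip_dl_right _ H.one_mem, ip_congr (fun _ _ => rfl) (g' := ((pc p H : ℂ)⁻¹ * eps H R St T) • dl 1)
    (D.rst_dl_one S hT), ip_smul_right, ip_dl_right _ (T ⊓ H).one_mem, map_mul, D.conj_eps S hT, map_inv₀,
    map_natCast, ← pc_mul_pc' p H, Nat.cast_mul] at h1
  have h2 := pc_ne (p := p) H
  have h3 : (pc' p H : ℂ) ≠ 0 := by
    have := S.cardH_ne
    rw [← pc_mul_pc' p H, Nat.cast_mul] at this
    exact right_ne_zero_of_mul this
  have h4 := S.cardT_ne T
  field_simp at h1 ⊢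
  linear_combination h1

/-- the number of tori -/
theorem card_tori : S.tori.card = pc p H ^ 2 := by
  have := S.finH
  have h1 := S.ip_unif (dl 1) (D.unif_dl_one S)
  have e : ∀ T ∈ S.tori, (wt H T : ℂ) * ip (T ⊓ H) (rst H R T (dl 1)) (rst H R T (dl 1)) =
      (Nat.card H : ℂ)⁻¹ * ((pc p H : ℂ) ^ 2)⁻¹ := fun T hT => by
    have hT := S.mem_tori.1 hT
    have := S.finT T
    rw [ip_congr (f' := ((pc p H : ℂ)⁻¹ * eps H R St T) • dl 1) (g' := ((pc p H : ℂ)⁻¹ * eps H R St T) • dl 1)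
      (D.rst_dl_one S hT) (D.rst_dl_one S hT), ip_smul_right, ip_smul_left, ip_dl_right _ (T ⊓ H).one_mem, dl_self,
      map_mul, D.conj_eps S hT, map_inv₀, map_natCast, wt_coe]
    have h2 := pc_ne (p := p) H
    have h3 := S.cardH_ne
    have h4 := S.cardT_ne T
    have h5 := D.eps_mul_self S hT
    field_simp
    linear_combination h5
  rw [Finset.sum_congr rfl e, ip_dl_right _ H.one_mem, dl_self, Finset.sum_const, nsmul_eq_mul] at h1
  have h2 := pc_ne (p := p) H
  have h3 := S.cardH_ne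
  field_simp at h1
  exact_mod_cast h1.symm

/-- the degree of a function by its restrictions -/
theorem apply_one (χ : Γ → ℂ) : χ 1 = (pc p H : ℂ)⁻¹ * ∑ T ∈ S.tori, eps H R St T * rst H R T χ 1 := by
  have := S.finH
  have h1 := S.ip_unif χ (D.unif_dl_one S)
  have e : ∀ T ∈ S.tori, (wt H T : ℂ) * ip (T ⊓ H) (rst H R T χ) (rst H R T (dl 1)) =
      (Nat.card H : ℂ)⁻¹ * ((pc p H : ℂ)⁻¹ * (eps H R St T * rst H R T χ 1)) := fun T hT => by
    have hT := S.mem_tori.1 hT
    have := S.finT T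
    rw [ip_congr (fun _ _ => rfl) (g' := ((pc p H : ℂ)⁻¹ * eps H R St T) • dl 1) (D.rst_dl_one S hT), ip_smul_right,
      ip_dl_right _ (T ⊓ H).one_mem, map_mul, D.conj_eps S hT, map_inv₀, map_natCast, wt_coe]
    have h3 := S.cardH_ne
    have h4 := S.cardT_ne T
    field_simp
  rw [Finset.sum_congr rfl e, ip_dl_right _ H.one_mem, ← Finset.mul_sum, ← Finset.mul_sum] at h1
  exact mul_left_cancel₀ (inv_ne_zero S.cardH_ne) h1

/-- every function of nonzero degree (every irreducible character) occurs in some `R T θ` -/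
theorem exists_ip_ne {χ : Γ → ℂ} (hχ : χ 1 ≠ 0) : ∃ T ∈ A, ∃ θ : ↥(T ⊓ H) →* ℂˣ, ip H χ (R T (lin θ)) ≠ 0 := by
  by_contra hn
  push Not at hn
  apply hχ
  rw [D.apply_one S χ, Finset.sum_eq_zero, mul_zero]
  intro T hT
  have hT := S.mem_tori.1 hT
  have := S.finT T
  have := finite_hom (T ⊓ H)
  have := Fintype.ofFinite (↥(T ⊓ H) →* ℂˣ)
  rw [fourier (S.comm T hT) (rst H R T χ) 1 (T ⊓ H).one_mem, Finset.sum_eq_zero, Pi.zero_apply, mul_zero]
  intro θ _
  rw [← S.ip_rst hT, hn T hT θ, zero_smul]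

theorem ip_R_mul_st {T : Subgroup Γ} (hT : T ∈ A) (f : Γ → ℂ) {ψ : Γ → ℂ} (hψ : IsCls H ψ) :
    ip H (R T f) (ψ * St) = eps H R St T * ip (T ⊓ H) f ψ := by
  have := S.finT T
  rw [S.ip_rst' hT, ip_congr (fun _ _ => rfl) (g' := eps H R St T • ψ)
    (fun t ht => by rw [D.rst_mul_st S hψ hT t ht, mul_comm]; rfl), ip_smul_right, D.conj_eps S hT]

/-- the Steinberg character does not vanish on semisimple elements -/
theorem ne_zero {s : Γ} (hs : s ∈ H) (hss : IsSs p s) : St s ≠ 0 := by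
  intro h0
  obtain ⟨T, hT, hsT⟩ := S.toral hs hss
  have := S.finT T
  have h1 := D.ip_R_mul_st S hT (dl s) (isCls_clsI s)
  rw [ip_dl_left _ (show s ∈ T ⊓ H from ⟨hsT, hs⟩), clsI_self, map_one, mul_one,
    ip_congr (fun _ _ => rfl) (g' := 0), ip_zero_right] at h1
  · exact mul_ne_zero (D.eps_ne S hT) (inv_ne_zero (S.cardT_ne T)) h1.symm
  · intro g _
    by_cases hg : ∃ x ∈ H, x * s * x⁻¹ = g
    · obtain ⟨x, hx, rfl⟩ := hg
      rw [Pi.mul_apply, D.cls s hs x hx, h0, mul_zero]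
      rfl
    · rw [Pi.mul_apply, clsI_of_not hg, zero_mul]
      rfl

/-- class functions supported on the semisimple elements are uniform -/
theorem unif_of_ss {ψ : Γ → ℂ} (hψ : IsCls H ψ) (h0 : ∀ g ∈ H, ¬ IsSs p g → ψ g = 0) : IsUnif H A R ψ := by
  have h1 : IsCls H (fun g => ψ g / St g) := fun g hg h hh => by
    show ψ _ / St _ = ψ g / St g
    rw [hψ g hg h hh, D.cls g hg h hh]
  refine (D.unif_mul_st S h1).congr fun g hg => ?_
  by_cases hs : IsSs p g
  · exact div_mul_cancel₀ _ (D.ne_zero S hg hs)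
  · rw [Pi.mul_apply, h0 g hg hs, zero_div, zero_mul]

theorem unif_clsI {s : Γ} (hss : IsSs p s) : IsUnif H A R (clsI H s) :=
  D.unif_of_ss S (isCls_clsI s) fun _ _ hg => clsI_of_not fun ⟨x, _, e⟩ => hg (e ▸ hss.conj x)

/-- the values on semisimple elements are those of the uniform projection -/
theorem apply_ss {χ : Γ → ℂ} (hχ : IsCls H χ) {s : Γ} (hs : s ∈ H) (hss : IsSs p s) : χ s = pr H A R χ s := by
  have := S.finH
  have h1 := eq_zero_of_ip_clsI (hχ.sub (S.unif_cls (isUnif_pr χ))) hs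
    (by rw [ip_sub_left, S.ip_pr_unif χ (D.unif_clsI S hss), sub_self])
  rwa [Pi.sub_apply, sub_eq_zero] at h1

end StD

end Cfsg.Agent.DL.Uni
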