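import Mathlib
import Cfsg.Prelude.Def_Blocks
import Cfsg.Agent.Nodes.Reps
import Cfsg.Agent.Characters.Core

/-!
# Deligne–Lusztig systems: the interface of the uniform layer (helper3)

`Γ` is an ambient group (the algebraic group, or any group containing the finite groups below), `H ≤ Γ` a finite
subgroup (the fixed points of the Frobenius on a connected reductive subgroup), `A` a finite set of abelian subgroups
of `Γ` (the stable maximal tori; `T ⊓ H` is the finite torus), `R T` the Deligne–Lusztig induction on functions.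

* `Sys p H A R` : the facts about one reductive group (orthogonality, product with the trivial character, count of
  the tori, multiplication by functions of the semisimple part);
* `StD p H A R St` : a Steinberg character;
* `Cent p H A R s C RC` : the character formula at the semisimple element `s`;
* `Full p H A R` : all of it.
-/

set_option autoImplicit false

namespace Cfsg.Agent.DL.Uni

open Cfsg Cfsg.Agent.Nodes.Reps
open scoped ComplexConjugate

universe u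

variable {Γ : Type u} [Group Γ]

/-- restriction of a function to a subgroup -/
def res (H : Subgroup Γ) (f : Γ → ℂ) : H → ℂ := fun h => f h

/-- the scalar product over the (finite) subgroup `H` -/
noncomputable def ip (H : Subgroup Γ) (f g : Γ → ℂ) : ℂ :=
  (Nat.card H : ℂ)⁻¹ * ∑ᶠ h : H, f h * conj (g h)

/-- `p`-elements ("unipotent") -/
def IsUni (p : ℕ) (u : Γ) : Prop := ∃ k : ℕ, orderOf u = p ^ k

/-- `p'`-elements ("semisimple") -/
def IsSs (p : ℕ) (s : Γ) : Prop := ¬ p ∣ orderOf s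

/-- `θ` is a linear character on the subgroup `K` (arbitrary values outside `K`) -/
structure IsLin (K : Subgroup Γ) (θ : Γ → ℂ) : Prop where
  one : θ 1 = 1
  mul : ∀ a ∈ K, ∀ b ∈ K, θ (a * b) = θ a * θ b

/-- class functions on the subgroup `H` -/
def IsCls (H : Subgroup Γ) (f : Γ → ℂ) : Prop := ∀ g ∈ H, ∀ h ∈ H, f (h * g * h⁻¹) = f g

/-- `p`-constant functions on `H`: class functions that depend only on the semisimple part -/
structure PConst (p : ℕ) (H : Subgroup Γ) (φ : Γ → ℂ) : Prop where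
  cls : IsCls H φ
  jordan : ∀ s ∈ H, ∀ u ∈ H, IsSs p s → IsUni p u → s * u = u * s → φ (s * u) = φ s

/-- The facts about one group. -/
structure Sys (p : ℕ) (H : Subgroup Γ) (A : Set (Subgroup Γ)) (R : Subgroup Γ → (Γ → ℂ) →ₗ[ℂ] (Γ → ℂ)) : Prop where
  finH : Finite H
  finA : A.Finite
  conjA : ∀ h ∈ H, ∀ T ∈ A, cj h T ∈ A
  comm : ∀ T ∈ A, ∀ a ∈ T ⊓ H, ∀ b ∈ T ⊓ H, a * b = b * a
  ss : ∀ T ∈ A, ∀ t ∈ T ⊓ H, IsSs p t
  gen : ∀ T ∈ A, ∀ θ, IsLin (T ⊓ H) θ → IsGeneralizedCharacter H (res H (R T θ))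
  orth : ∀ T ∈ A, ∀ T' ∈ A, ∀ f f' : Γ → ℂ, ip H (R T f) (R T' f') =
    (Nat.card ↥(T ⊓ H) : ℂ)⁻¹ * ∑ᶠ (h : H) (_ : cj (h : Γ) T = T'), ip (T ⊓ H) f (fun t => f' (h * t * (h : Γ)⁻¹))
  triv : ∀ T ∈ A, ∀ f : Γ → ℂ, ip H (R T f) 1 = ip (T ⊓ H) f 1
  count : ∑ᶠ T ∈ A, Nat.card ↥(T ⊓ H) = Nat.card H
  pconst : ∀ T ∈ A, ∀ φ f : Γ → ℂ, PConst p H φ → ∀ h ∈ H, R T (φ * f) h = φ h * R T f h

/-- A Steinberg character. -/
structure StD (p : ℕ) (H : Subgroup Γ) (A : Set (Subgroup Γ)) (R : Subgroup Γ → (Γ → ℂ) →ₗ[ℂ] (Γ → ℂ))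
    (St : Γ → ℂ) : Prop where
  irr : IsIrrCharacter H (res H St)
  deg : St 1 = ((p ^ (Nat.card H).factorization p : ℕ) : ℂ)
  odd : ∀ T ∈ A, ∃ k : ℤ, k ≠ 0 ∧ ip H St (R T 1) = k

/-- The character formula at the semisimple element `s`; `C` is the group of fixed points of the connected
centralizer. -/
structure Cent (p : ℕ) (H : Subgroup Γ) (A : Set (Subgroup Γ)) (R : Subgroup Γ → (Γ → ℂ) →ₗ[ℂ] (Γ → ℂ)) (s : Γ)
    (C : Subgroup Γ) (RC : Subgroup Γ → (Γ → ℂ) →ₗ[ℂ] (Γ → ℂ)) : Prop where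
  le : C ≤ H
  cent : ∀ c ∈ C, c * s = s * c
  uni : ∀ u ∈ H, IsUni p u → u * s = s * u → u ∈ C
  tor : ∀ T ∈ A, s ∈ T → T ⊓ H ≤ C
  sys : Sys p C {T | T ∈ A ∧ s ∈ T} RC
  formula : ∀ T ∈ A, ∀ f : Γ → ℂ, ∀ u ∈ C, IsUni p u → R T f (s * u) =
    (Nat.card C : ℂ)⁻¹ * ∑ᶠ (x : H) (_ : s ∈ cj (x : Γ) T), f ((x : Γ)⁻¹ * s * x) * RC (cj (x : Γ) T) 1 u

/-- Everything. -/
structure Full (p : ℕ) (H : Subgroup Γ) (A : Set (Subgroup Γ)) (R : Subgroup Γ → (Γ → ℂ) →ₗ[ℂ] (Γ → ℂ)) : Prop where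
  sys : Sys p H A R
  st : ∃ St, StD p H A R St
  cent : ∀ T ∈ A, ∀ s ∈ T ⊓ H, ∃ C RC, Cent p H A R s C RC ∧ ∃ St, StD p C {T | T ∈ A ∧ s ∈ T} RC St

end Cfsg.Agent.DL.Uni
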