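import Cfsg.Agent.DL.Uni.Ip

/-!
# Locality, equivariance, the adjoint `rst` of `R T`, Mackey formula for tori (helper3)
-/

set_option autoImplicit false

namespace Cfsg.Agent.DL.Uni

open Cfsg Cfsg.Agent.Nodes.Reps Cfsg.Agent.Characters.Core
open scoped ComplexConjugate

universe u

variable {Γ : Type u} [Group Γ] {p : ℕ} {H : Subgroup Γ} {A : Set (Subgroup Γ)}
  {R : Subgroup Γ → (Γ → ℂ) →ₗ[ℂ] (Γ → ℂ)}

/-- Deligne–Lusztig restriction: the adjoint of `R T` -/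
noncomputable def rst (H : Subgroup Γ) (R : Subgroup Γ → (Γ → ℂ) →ₗ[ℂ] (Γ → ℂ)) (T : Subgroup Γ) (f : Γ → ℂ) :
    Γ → ℂ := fun t => (Nat.card ↥(T ⊓ H) : ℂ) * ip H f (R T (dl t))

theorem cj_eq_iff {h : Γ} {T T' : Subgroup Γ} : cj h T = T' ↔ cj h⁻¹ T' = T :=
  ⟨fun e => by rw [← e, cj_inv_cj], fun e => by rw [← e, cj_cj_inv]⟩

theorem dl_conj (h t : Γ) : dl (h * t * h⁻¹) = fun x => dl t (h⁻¹ * x * h) := by
  funext x
  by_cases e : x = h * t * h⁻¹
  · rw [e, dl_self, show h⁻¹ * (h * t * h⁻¹) * h = t by group, dl_self]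
  · rw [dl_ne e, dl_ne]
    intro e2
    exact e (by rw [← e2]; group)

namespace Sys

variable (S : Sys p H A R)
include S

theorem finT (T : Subgroup Γ) : Finite ↥(T ⊓ H) :=
  have := S.finH
  finite_inf T

theorem cardT_ne (T : Subgroup Γ) : (Nat.card ↥(T ⊓ H) : ℂ) ≠ 0 :=
  have := S.finT T
  card_ne_zero _

theorem cardH_ne : (Nat.card H : ℂ) ≠ 0 :=
  have := S.finH
  card_ne_zero _

open Classical in
theorem orth_sum [Fintype H] {T T' : Subgroup Γ} (hT : T ∈ A) (hT' : T' ∈ A) (f f' : Γ → ℂ) :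
    ip H (R T f) (R T' f') = (Nat.card ↥(T ⊓ H) : ℂ)⁻¹ *
      ∑ h : H, if cj (h : Γ) T = T' then ip (T ⊓ H) f (fun t => f' (h * t * (h : Γ)⁻¹)) else 0 := by
  rw [S.orth T hT T' hT', finsum_cond]

/-- `R T f` on `H` depends only on the values of `f` on `T ⊓ H`. -/
theorem R_congr {T : Subgroup Γ} (hT : T ∈ A) {f g : Γ → ℂ} (e : ∀ t ∈ T ⊓ H, f t = g t) :
    ∀ h ∈ H, R T f h = R T g h := by
  have := S.finH
  have := Fintype.ofFinite H
  have h0 : ip H (R T (f - g)) (R T (f - g)) = 0 := by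
    rw [S.orth_sum hT hT, Finset.sum_eq_zero, mul_zero]
    intro h _
    split_ifs
    · rw [ip_congr (f' := 0) (fun t ht => by rw [Pi.sub_apply, e t ht, sub_self]; rfl) (fun _ _ => rfl),
        ip_zero_left]
    · rfl
  intro h hh
  have h1 := eq_zero_of_ip_self h0 h hh
  rwa [map_sub, Pi.sub_apply, sub_eq_zero] at h1

theorem ip_R_conj {T T' : Subgroup Γ} (hT : T ∈ A) (hT' : T' ∈ A) {h : Γ} (hh : h ∈ H) (f f' : Γ → ℂ) :
    ip H (R T' f') (R (cj h T) fun t => f (h⁻¹ * t * h)) = ip H (R T' f') (R T f) := by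
  classical
  have := S.finH
  have := Fintype.ofFinite H
  rw [S.orth_sum hT' (S.conjA h hh T hT), S.orth_sum hT' hT]
  congr 1
  rw [← Equiv.sum_comp (Equiv.mulLeft (⟨h, hh⟩ : H))]
  refine Finset.sum_congr rfl fun y _ => ?_
  have e : cj ((Equiv.mulLeft (⟨h, hh⟩ : H) y : H) : Γ) T' = cj h T ↔ cj (y : Γ) T' = T := by
    change cj (h * y) T' = cj h T ↔ _
    rw [cj_mul]
    exact ⟨fun e => by rw [← cj_inv_cj h (cj (y : Γ) T'), e, cj_inv_cj], fun e => by rw [e]⟩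
  refine if_congr e ?_ rfl
  congr 1
  funext t
  change f (h⁻¹ * (h * y * t * (h * y)⁻¹) * h) = _
  congr 1
  group

/-- equivariance -/
theorem R_conj {T : Subgroup Γ} (hT : T ∈ A) {h : Γ} (hh : h ∈ H) (f : Γ → ℂ) :
    ∀ g ∈ H, R (cj h T) (fun t => f (h⁻¹ * t * h)) g = R T f g := by
  have := S.finH
  have h0 : ip H (R (cj h T) (fun t => f (h⁻¹ * t * h)) - R T f)
      (R (cj h T) (fun t => f (h⁻¹ * t * h)) - R T f) = 0 := by
    rw [ip_sub_right, ip_sub_left, ip_sub_left, S.ip_R_conj hT (S.conjA h hh T hT) hh, S.ip_R_conj hT hT hh,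
      sub_self]
  intro g hg
  have h1 := eq_zero_of_ip_self h0 g hg
  rwa [Pi.sub_apply, sub_eq_zero] at h1

theorem R_eq_sum_lin {T : Subgroup Γ} (hT : T ∈ A) [Fintype (↥(T ⊓ H) →* ℂˣ)] (f : Γ → ℂ) :
    ∀ g ∈ H, R T f g = (∑ θ : ↥(T ⊓ H) →* ℂˣ, ip (T ⊓ H) f (lin θ) • R T (lin θ)) g := by
  have := S.finT T
  intro g hg
  rw [S.R_congr hT (fourier (S.comm T hT) f) g hg, map_sum]
  simp only [map_smul]

theorem R_eq_sum_dl {T : Subgroup Γ} (hT : T ∈ A) [Fintype ↥(T ⊓ H)] (f : Γ → ℂ) :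
    ∀ g ∈ H, R T f g = (∑ t : ↥(T ⊓ H), f t • R T (dl (t : Γ))) g := by
  intro g hg
  rw [S.R_congr hT (eq_sum_dl f) g hg, map_sum]
  simp only [map_smul]

theorem isCls_R {T : Subgroup Γ} (hT : T ∈ A) (f : Γ → ℂ) : IsCls H (R T f) := by
  have := S.finT T
  have := finite_hom (T ⊓ H)
  have := Fintype.ofFinite (↥(T ⊓ H) →* ℂˣ)
  refine IsCls.congr ?_ fun g hg => (S.R_eq_sum_lin hT f g hg).symm
  exact isCls_sum _ fun θ _ => (isCls_of_gen (S.gen T hT _ (isLin_lin θ))).smul _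

/-- adjunction -/
theorem ip_rst {T : Subgroup Γ} (hT : T ∈ A) (f φ : Γ → ℂ) : ip H f (R T φ) = ip (T ⊓ H) (rst H R T f) φ := by
  have := S.finH
  have := S.finT T
  have := Fintype.ofFinite ↥(T ⊓ H)
  rw [ip_congr (fun _ _ => rfl) (S.R_eq_sum_dl hT φ), ip_sum_right, ip_eq_sum, Finset.mul_sum]
  refine Finset.sum_congr rfl fun t _ => ?_
  rw [ip_smul_right, rst, mul_assoc, ← mul_assoc, inv_mul_cancel₀ (S.cardT_ne T), one_mul, mul_comm]

theorem ip_rst' {T : Subgroup Γ} (hT : T ∈ A) (φ f : Γ → ℂ) : ip H (R T φ) f = ip (T ⊓ H) φ (rst H R T f) := by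
  have := S.finH
  have := S.finT T
  rw [← ip_conj, S.ip_rst hT, ip_conj]

theorem rst_conj {T : Subgroup Γ} (hT : T ∈ A) {h : Γ} (hh : h ∈ H) (f : Γ → ℂ) (t : Γ) :
    rst H R (cj h T) f (h * t * h⁻¹) = rst H R T f t := by
  unfold rst
  rw [card_cj_inf hh, dl_conj, ip_congr (fun _ _ => rfl) (S.R_conj hT hh (dl t))]

omit S in
theorem _root_.Cfsg.Agent.DL.Uni.rst_congr {T : Subgroup Γ} {f g : Γ → ℂ} (e : ∀ h ∈ H, f h = g h) :
    rst H R T f = rst H R T g := by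
  funext t
  unfold rst
  rw [ip_congr e fun _ _ => rfl]

theorem rst_add (T : Subgroup Γ) (f g : Γ → ℂ) : rst H R T (f + g) = rst H R T f + rst H R T g := by
  have := S.finH
  funext t
  simp only [rst, ip_add_left, Pi.add_apply, mul_add]

theorem rst_sub (T : Subgroup Γ) (f g : Γ → ℂ) : rst H R T (f - g) = rst H R T f - rst H R T g := by
  have := S.finH
  funext t
  simp only [rst, ip_sub_left, Pi.sub_apply, mul_sub]

theorem rst_smul (T : Subgroup Γ) (c : ℂ) (f : Γ → ℂ) : rst H R T (c • f) = c • rst H R T f := by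
  have := S.finH
  funext t
  simp only [rst, ip_smul_left, Pi.smul_apply, smul_eq_mul]
  ring

theorem rst_sum {ι : Type*} (s : Finset ι) (T : Subgroup Γ) (f : ι → Γ → ℂ) :
    rst H R T (∑ i ∈ s, f i) = ∑ i ∈ s, rst H R T (f i) := by
  have := S.finH
  funext t
  simp only [rst, ip_sum_left, Finset.sum_apply, Finset.mul_sum]

open Classical in
/-- Mackey formula for two tori -/
theorem rst_R [Fintype H] {T T' : Subgroup Γ} (hT : T ∈ A) (hT' : T' ∈ A) (f : Γ → ℂ) :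
    ∀ t ∈ T' ⊓ H, rst H R T' (R T f) t = (Nat.card ↥(T ⊓ H) : ℂ)⁻¹ *
      ∑ h : H, if cj (h : Γ) T = T' then f ((h : Γ)⁻¹ * t * h) else 0 := by
  intro t ht
  have := S.finT T
  rw [rst, S.orth_sum hT hT', mul_left_comm]
  congr 1
  rw [Finset.mul_sum]
  refine Finset.sum_congr rfl fun h _ => ?_
  split_ifs with e
  · have h1 : (h : Γ)⁻¹ * t * h ∈ T ⊓ H := by
      rw [← mem_cj, ← cj_inf h.2, e]
      exact ht
    have h2 : (fun x => dl t ((h : Γ) * x * (h : Γ)⁻¹)) = dl ((h : Γ)⁻¹ * t * h) := by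
      have := dl_conj (h : Γ)⁻¹ t
      rw [inv_inv] at this
      rw [this]
    rw [h2, ip_dl_right _ h1, ← e, card_cj_inf h.2, ← mul_assoc, mul_inv_cancel₀ (S.cardT_ne T), one_mul]
  · rw [mul_zero]

theorem rst_one {T : Subgroup Γ} (hT : T ∈ A) : ∀ t ∈ T ⊓ H, rst H R T 1 t = 1 := by
  intro t ht
  have := S.finH
  have := S.finT T
  rw [rst, ← ip_conj, S.triv T hT, ip_conj, ip_dl_right _ ht, Pi.one_apply, mul_one,
    mul_inv_cancel₀ (S.cardT_ne T)]

omit S in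
theorem _root_.Cfsg.Agent.DL.Uni.PConst.star {φ : Γ → ℂ} (hφ : PConst p H φ) : PConst p H (star φ) :=
  ⟨hφ.cls.star, fun s hs u hu h1 h2 h3 => by rw [Pi.star_apply, Pi.star_apply, hφ.jordan s hs u hu h1 h2 h3]⟩

theorem rst_mul {T : Subgroup Γ} (hT : T ∈ A) {φ : Γ → ℂ} (hφ : PConst p H φ) (f : Γ → ℂ) (t : Γ) :
    rst H R T (φ * f) t = φ t * rst H R T f t := by
  have := S.finH
  have e : star φ * dl t = conj (φ t) • dl t := by
    funext x
    by_cases hx : x = t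
    · subst hx
      rfl
    · simp [dl_ne hx]
  rw [rst, ip_mul_left, ip_congr (fun _ _ => rfl) (g := star φ * R T (dl t)) (g' := R T (star φ * dl t))
    (fun h hh => (S.pconst T hT _ _ hφ.star h hh).symm), e, map_smul, ip_smul_right, Complex.conj_conj, rst]
  ring

end Sys

end Cfsg.Agent.DL.Uni
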