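import Cfsg.Agent.DL.Uni.Star

/-!
# Uniform functions and the uniform projection (helper3)
-/

set_option autoImplicit false

namespace Cfsg.Agent.DL.Uni

open Cfsg Cfsg.Agent.Nodes.Reps Cfsg.Agent.Characters.Core
open scoped ComplexConjugate

universe u

variable {Γ : Type u} [Group Γ] {p : ℕ} {H : Subgroup Γ} {A : Set (Subgroup Γ)}
  {R : Subgroup Γ → (Γ → ℂ) →ₗ[ℂ] (Γ → ℂ)}

/-- the weight `|T| / |H|` of a torus -/
noncomputable def wt (H T : Subgroup Γ) : ℝ := (Nat.card ↥(T ⊓ H) : ℝ) / Nat.card H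

theorem wt_nonneg (H T : Subgroup Γ) : 0 ≤ wt H T := by
  unfold wt
  positivity

theorem wt_coe (H T : Subgroup Γ) : (wt H T : ℂ) = (Nat.card ↥(T ⊓ H) : ℂ) / Nat.card H := by
  unfold wt
  push_cast
  rfl

theorem wt_cj {h : Γ} (hh : h ∈ H) (T : Subgroup Γ) : wt H (cj h T) = wt H T := by
  unfold wt
  rw [card_cj_inf hh]

/-- the uniform function of a family of functions on the tori -/
noncomputable def usum (H : Subgroup Γ) (A : Set (Subgroup Γ)) (R : Subgroup Γ → (Γ → ℂ) →ₗ[ℂ] (Γ → ℂ))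
    (φ : Subgroup Γ → Γ → ℂ) : Γ → ℂ := ∑ᶠ T ∈ A, (wt H T : ℂ) • R T (φ T)

/-- the uniform projection -/
noncomputable def pr (H : Subgroup Γ) (A : Set (Subgroup Γ)) (R : Subgroup Γ → (Γ → ℂ) →ₗ[ℂ] (Γ → ℂ))
    (f : Γ → ℂ) : Γ → ℂ := usum H A R fun T => rst H R T f

/-- uniform functions -/
def IsUnif (H : Subgroup Γ) (A : Set (Subgroup Γ)) (R : Subgroup Γ → (Γ → ℂ) →ₗ[ℂ] (Γ → ℂ)) (f : Γ → ℂ) : Prop :=
  ∃ φ, ∀ h ∈ H, f h = usum H A R φ h

/-- equivariant families -/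
def Eqv (H : Subgroup Γ) (A : Set (Subgroup Γ)) (φ : Subgroup Γ → Γ → ℂ) : Prop :=
  ∀ h ∈ H, ∀ T ∈ A, ∀ t ∈ T ⊓ H, φ (cj h T) (h * t * h⁻¹) = φ T t

theorem IsUnif.congr {f g : Γ → ℂ} (hf : IsUnif H A R f) (e : ∀ h ∈ H, f h = g h) : IsUnif H A R g := by
  obtain ⟨φ, hφ⟩ := hf
  exact ⟨φ, fun h hh => by rw [← e h hh, hφ h hh]⟩

theorem isUnif_usum (φ : Subgroup Γ → Γ → ℂ) : IsUnif H A R (usum H A R φ) := ⟨φ, fun _ _ => rfl⟩

theorem isUnif_pr (f : Γ → ℂ) : IsUnif H A R (pr H A R f) := isUnif_usum _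

theorem Eqv.of_cls {ψ : Γ → ℂ} (hψ : IsCls H ψ) : Eqv H A fun _ => ψ := fun h hh _ _ t ht => hψ t ht.2 h hh

theorem Eqv.mul {φ ψ : Subgroup Γ → Γ → ℂ} (hφ : Eqv H A φ) (hψ : Eqv H A ψ) : Eqv H A fun T => φ T * ψ T :=
  fun h hh T hT t ht => by
    show φ (cj h T) _ * ψ (cj h T) _ = φ T t * ψ T t
    rw [hφ h hh T hT t ht, hψ h hh T hT t ht]

namespace Sys

variable (S : Sys p H A R)

/-- the tori as a finset -/
noncomputable def tori : Finset (Subgroup Γ) := S.finA.toFinset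

theorem mem_tori {T : Subgroup Γ} : T ∈ S.tori ↔ T ∈ A := S.finA.mem_toFinset

theorem usum_eq (φ : Subgroup Γ → Γ → ℂ) : usum H A R φ = ∑ T ∈ S.tori, (wt H T : ℂ) • R T (φ T) :=
  finsum_mem_eq_finite_toFinset_sum _ S.finA

theorem usum_apply (φ : Subgroup Γ → Γ → ℂ) (g : Γ) :
    usum H A R φ g = ∑ T ∈ S.tori, (wt H T : ℂ) * R T (φ T) g := by
  rw [S.usum_eq, Finset.sum_apply]
  rfl

theorem sum_wt : ∑ T ∈ S.tori, wt H T = 1 := by
  have := S.finH
  have h1 := S.count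
  rw [finsum_mem_eq_finite_toFinset_sum _ S.finA] at h1
  unfold wt
  rw [← Finset.sum_div, ← Nat.cast_sum]
  erw [h1]
  exact div_self (by exact_mod_cast (Nat.card_pos (α := H)).ne')

include S

theorem wt_pos (T : Subgroup Γ) : 0 < wt H T := by
  have := S.finH
  have := S.finT T
  unfold wt
  exact div_pos (by exact_mod_cast Nat.card_pos) (by exact_mod_cast Nat.card_pos)

theorem nonempty : A.Nonempty := by
  by_contra h
  have h1 := S.sum_wt
  rw [Finset.sum_eq_zero fun T hT => absurd ⟨T, S.mem_tori.1 hT⟩ h] at h1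
  exact zero_ne_one h1

theorem usum_congr {φ ψ : Subgroup Γ → Γ → ℂ} (e : ∀ T ∈ A, ∀ t ∈ T ⊓ H, φ T t = ψ T t) :
    ∀ h ∈ H, usum H A R φ h = usum H A R ψ h := fun h hh => by
  rw [S.usum_apply, S.usum_apply]
  exact Finset.sum_congr rfl fun T hT => by rw [S.R_congr (S.mem_tori.1 hT) (e T (S.mem_tori.1 hT)) h hh]

theorem usum_add (φ ψ : Subgroup Γ → Γ → ℂ) : usum H A R (φ + ψ) = usum H A R φ + usum H A R ψ := by
  rw [S.usum_eq, S.usum_eq, S.usum_eq, ← Finset.sum_add_distrib]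
  exact Finset.sum_congr rfl fun T _ => by rw [Pi.add_apply, map_add, smul_add]

theorem usum_smul (c : ℂ) (φ : Subgroup Γ → Γ → ℂ) : usum H A R (c • φ) = c • usum H A R φ := by
  rw [S.usum_eq, S.usum_eq, Finset.smul_sum]
  exact Finset.sum_congr rfl fun T _ => by rw [Pi.smul_apply, map_smul, smul_comm]

theorem usum_zero : usum H A R 0 = 0 := by
  rw [S.usum_eq]
  exact Finset.sum_eq_zero fun T _ => by rw [Pi.zero_apply, map_zero, smul_zero]

theorem isCls_usum (φ : Subgroup Γ → Γ → ℂ) : IsCls H (usum H A R φ) := by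
  rw [S.usum_eq]
  exact isCls_sum _ fun T hT => (S.isCls_R (S.mem_tori.1 hT) _).smul _

theorem unif_cls {f : Γ → ℂ} (hf : IsUnif H A R f) : IsCls H f := by
  obtain ⟨φ, hφ⟩ := hf
  exact (S.isCls_usum φ).congr fun h hh => (hφ h hh).symm

theorem unif_add {f g : Γ → ℂ} (hf : IsUnif H A R f) (hg : IsUnif H A R g) : IsUnif H A R (f + g) := by
  obtain ⟨φ, hφ⟩ := hf
  obtain ⟨ψ, hψ⟩ := hg
  exact ⟨φ + ψ, fun h hh => by rw [S.usum_add, Pi.add_apply, Pi.add_apply, hφ h hh, hψ h hh]⟩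

theorem unif_smul (c : ℂ) {f : Γ → ℂ} (hf : IsUnif H A R f) : IsUnif H A R (c • f) := by
  obtain ⟨φ, hφ⟩ := hf
  exact ⟨c • φ, fun h hh => by rw [S.usum_smul, Pi.smul_apply, Pi.smul_apply, hφ h hh]⟩

theorem unif_sub {f g : Γ → ℂ} (hf : IsUnif H A R f) (hg : IsUnif H A R g) : IsUnif H A R (f - g) :=
  (S.unif_add hf (S.unif_smul (-1) hg)).congr fun h _ => by simp [sub_eq_add_neg]

theorem unif_zero : IsUnif H A R 0 := ⟨0, fun h _ => by rw [S.usum_zero]⟩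

theorem unif_sum {ι : Type*} (s : Finset ι) {f : ι → Γ → ℂ} (hf : ∀ i ∈ s, IsUnif H A R (f i)) :
    IsUnif H A R (∑ i ∈ s, f i) := by
  classical
  induction s using Finset.induction_on with
  | empty => simpa using S.unif_zero
  | insert a s ha ih =>
    rw [Finset.sum_insert ha]
    exact S.unif_add (hf a (Finset.mem_insert_self a s)) (ih fun i hi => hf i (Finset.mem_insert_of_mem hi))

theorem unif_R {T : Subgroup Γ} (hT : T ∈ A) (f : Γ → ℂ) : IsUnif H A R (R T f) := by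
  classical
  refine ⟨fun T' => if T' = T then ((wt H T : ℂ))⁻¹ • f else 0, fun h _ => ?_⟩
  rw [S.usum_apply, Finset.sum_eq_single T]
  · rw [if_pos rfl, map_smul, Pi.smul_apply, smul_eq_mul, ← mul_assoc, mul_inv_cancel₀, one_mul]
    exact_mod_cast (S.wt_pos T).ne'
  · intro T' _ hT'
    rw [if_neg hT', map_zero, Pi.zero_apply, mul_zero]
  · intro h
    exact absurd (S.mem_tori.2 hT) h

theorem ip_usum (f : Γ → ℂ) (φ : Subgroup Γ → Γ → ℂ) :
    ip H f (usum H A R φ) = ∑ T ∈ S.tori, (wt H T : ℂ) * ip (T ⊓ H) (rst H R T f) (φ T) := by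
  have := S.finH
  rw [S.usum_eq, ip_sum_right]
  exact Finset.sum_congr rfl fun T hT => by rw [ip_smul_right, Complex.conj_ofReal, S.ip_rst (S.mem_tori.1 hT)]

theorem ip_usum' (φ : Subgroup Γ → Γ → ℂ) (f : Γ → ℂ) :
    ip H (usum H A R φ) f = ∑ T ∈ S.tori, (wt H T : ℂ) * ip (T ⊓ H) (φ T) (rst H R T f) := by
  have := S.finH
  rw [S.usum_eq, ip_sum_left]
  exact Finset.sum_congr rfl fun T hT => by rw [ip_smul_left, S.ip_rst' (S.mem_tori.1 hT)]

theorem eqv_rst (f : Γ → ℂ) : Eqv H A fun T => rst H R T f := fun _ hh _ hT t _ => S.rst_conj hT hh f t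

/-- the restriction of the uniform function of an equivariant family -/
theorem rst_usum {φ : Subgroup Γ → Γ → ℂ} (hφ : Eqv H A φ) {T : Subgroup Γ} (hT : T ∈ A) :
    ∀ t ∈ T ⊓ H, rst H R T (usum H A R φ) t = φ T t := by
  classical
  intro t ht
  have := S.finH
  have := Fintype.ofFinite H
  rw [S.usum_eq, S.rst_sum, Finset.sum_apply]
  have e : ∀ T' ∈ S.tori, rst H R T ((wt H T' : ℂ) • R T' (φ T')) t =
      (Nat.card H : ℂ)⁻¹ * ∑ h : H, if cj (h : Γ)⁻¹ T = T' then φ T t else 0 := fun T' hT' => by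
    rw [S.rst_smul, Pi.smul_apply, S.rst_R (S.mem_tori.1 hT') hT _ t ht, smul_eq_mul, wt_coe, ← mul_assoc,
      div_mul_eq_mul_div, mul_inv_cancel₀ (S.cardT_ne T'), one_div]
    congr 1
    refine Finset.sum_congr rfl fun h _ => ?_
    by_cases e : cj (h : Γ) T' = T
    · have h1 := hφ _ (H.inv_mem h.2) T hT t ht
      rw [inv_inv, cj_eq_iff.1 e] at h1
      rw [if_pos e, if_pos (cj_eq_iff.1 e), h1]
    · rw [if_neg e, if_neg fun e2 => e (cj_eq_iff.2 e2)]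
  rw [Finset.sum_congr rfl e, ← Finset.mul_sum, Finset.sum_comm]
  have e2 : ∀ h : H, (∑ T' ∈ S.tori, if cj (h : Γ)⁻¹ T = T' then φ T t else 0) = φ T t := fun h => by
    rw [Finset.sum_ite_eq, if_pos (S.mem_tori.2 (S.conjA _ (H.inv_mem h.2) T hT))]
  rw [Finset.sum_congr rfl fun h _ => e2 h, Finset.sum_const, Finset.card_univ, nsmul_eq_mul,
    ← Nat.card_eq_fintype_card, ← mul_assoc, inv_mul_cancel₀ S.cardH_ne, one_mul]

theorem rst_pr (f : Γ → ℂ) {T : Subgroup Γ} (hT : T ∈ A) : ∀ t ∈ T ⊓ H, rst H R T (pr H A R f) t = rst H R T f t :=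
  S.rst_usum (S.eqv_rst f) hT

/-- scalar products with a uniform function only see the restrictions -/
theorem ip_unif_congr {f g u : Γ → ℂ} (hu : IsUnif H A R u) (e : ∀ T ∈ A, ∀ t ∈ T ⊓ H, rst H R T f t = rst H R T g t) :
    ip H f u = ip H g u := by
  obtain ⟨φ, hφ⟩ := hu
  rw [ip_congr (fun _ _ => rfl) hφ, ip_congr (f := g) (fun _ _ => rfl) hφ, S.ip_usum, S.ip_usum]
  exact Finset.sum_congr rfl fun T hT => by rw [ip_congr (e T (S.mem_tori.1 hT)) fun _ _ => rfl]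

theorem ip_pr_unif (f : Γ → ℂ) {u : Γ → ℂ} (hu : IsUnif H A R u) : ip H (pr H A R f) u = ip H f u :=
  S.ip_unif_congr hu fun _ hT => S.rst_pr f hT

theorem ip_unif_pr {u : Γ → ℂ} (hu : IsUnif H A R u) (f : Γ → ℂ) : ip H u (pr H A R f) = ip H u f := by
  have := S.finH
  rw [← ip_conj, S.ip_pr_unif f hu, ip_conj]

/-- a uniform function is determined by its restrictions -/
theorem unif_ext {f g : Γ → ℂ} (hf : IsUnif H A R f) (hg : IsUnif H A R g)
    (e : ∀ T ∈ A, ∀ t ∈ T ⊓ H, rst H R T f t = rst H R T g t) : ∀ h ∈ H, f h = g h := by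
  have := S.finH
  have h0 : ip H (f - g) (f - g) = 0 := by
    rw [ip_sub_left, S.ip_unif_congr (S.unif_sub hf hg) e, sub_self]
  intro h hh
  have h1 := eq_zero_of_ip_self h0 h hh
  rwa [Pi.sub_apply, sub_eq_zero] at h1

theorem unif_eq_pr {f : Γ → ℂ} (hf : IsUnif H A R f) : ∀ h ∈ H, f h = pr H A R f h :=
  S.unif_ext hf (isUnif_pr f) fun _ hT t ht => (S.rst_pr f hT t ht).symm

theorem unif_eq_usum {f : Γ → ℂ} (hf : IsUnif H A R f) {φ : Subgroup Γ → Γ → ℂ}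
    (e : ∀ T ∈ A, ∀ t ∈ T ⊓ H, rst H R T f t = φ T t) : ∀ h ∈ H, f h = usum H A R φ h := fun h hh =>
  (S.unif_eq_pr hf h hh).trans (S.usum_congr e h hh)

/-- scalar product with a uniform function, by the restrictions -/
theorem ip_unif {u : Γ → ℂ} (f : Γ → ℂ) (hu : IsUnif H A R u) :
    ip H f u = ∑ T ∈ S.tori, (wt H T : ℂ) * ip (T ⊓ H) (rst H R T f) (rst H R T u) := by
  rw [ip_congr (fun _ _ => rfl) (S.unif_eq_pr hu), pr, S.ip_usum]

theorem ip_pr_pr (f g : Γ → ℂ) : ip H (pr H A R f) (pr H A R g) =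
    ∑ T ∈ S.tori, (wt H T : ℂ) * ip (T ⊓ H) (rst H R T f) (rst H R T g) := by
  rw [S.ip_pr_unif f (isUnif_pr g), pr, S.ip_usum]

theorem ip_usum_usum {φ ψ : Subgroup Γ → Γ → ℂ} (hφ : Eqv H A φ) :
    ip H (usum H A R φ) (usum H A R ψ) = ∑ T ∈ S.tori, (wt H T : ℂ) * ip (T ⊓ H) (φ T) (ψ T) := by
  rw [S.ip_usum]
  exact Finset.sum_congr rfl fun T hT => by rw [ip_congr (S.rst_usum hφ (S.mem_tori.1 hT)) fun _ _ => rfl]

/-- Pythagoras -/
theorem ip_self_eq_add (f : Γ → ℂ) :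
    ip H f f = ip H (pr H A R f) (pr H A R f) + ip H (f - pr H A R f) (f - pr H A R f) := by
  have := S.finH
  rw [ip_sub_left, ip_sub_right, ip_sub_right, S.ip_unif_pr (isUnif_pr f) f, ← S.ip_pr_unif f (isUnif_pr f),
    S.ip_unif_pr (isUnif_pr f) f]
  ring

/-- Bessel's inequality -/
theorem bessel (f : Γ → ℂ) : (ip H (pr H A R f) (pr H A R f)).re ≤ (ip H f f).re := by
  have := S.finH
  obtain ⟨r, hr, e⟩ := ip_self_nonneg (H := H) (f - pr H A R f)
  rw [S.ip_self_eq_add f, e, Complex.add_re, Complex.ofReal_re]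
  linarith

theorem unif_of_norm {f : Γ → ℂ} (hf : (ip H f f).re ≤ (ip H (pr H A R f) (pr H A R f)).re) : IsUnif H A R f := by
  have := S.finH
  obtain ⟨r, hr, e⟩ := ip_self_nonneg (H := H) (f - pr H A R f)
  rw [S.ip_self_eq_add f, e, Complex.add_re, Complex.ofReal_re] at hf
  have h0 : r = 0 := by linarith
  rw [h0, Complex.ofReal_zero] at e
  refine (isUnif_pr f).congr fun h hh => ?_
  have h1 := eq_zero_of_ip_self e h hh
  rw [Pi.sub_apply, sub_eq_zero] at h1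
  exact h1.symm

theorem unif_one : IsUnif H A R 1 := by
  have := S.finH
  apply S.unif_of_norm
  rw [S.ip_pr_pr, ip_one_one]
  have e : ∀ T ∈ S.tori, (wt H T : ℂ) * ip (T ⊓ H) (rst H R T 1) (rst H R T 1) = (wt H T : ℂ) := fun T hT => by
    have := S.finT T
    rw [ip_congr (f' := 1) (g' := 1) (S.rst_one (S.mem_tori.1 hT)) (S.rst_one (S.mem_tori.1 hT)), ip_one_one,
      mul_one]
  rw [Finset.sum_congr rfl e, ← Complex.ofReal_sum, S.sum_wt]
  simp

theorem mul_usum {φ : Γ → ℂ} (hφ : PConst p H φ) (ψ : Subgroup Γ → Γ → ℂ) :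
    ∀ h ∈ H, φ h * usum H A R ψ h = usum H A R (fun T => φ * ψ T) h := fun h hh => by
  rw [S.usum_apply, S.usum_apply, Finset.mul_sum]
  exact Finset.sum_congr rfl fun T hT => by rw [S.pconst T (S.mem_tori.1 hT) φ _ hφ h hh, mul_left_comm]

theorem unif_mul {φ f : Γ → ℂ} (hφ : PConst p H φ) (hf : IsUnif H A R f) : IsUnif H A R (φ * f) := by
  obtain ⟨ψ, hψ⟩ := hf
  exact ⟨fun T => φ * ψ T, fun h hh => by rw [Pi.mul_apply, hψ h hh, S.mul_usum hφ ψ h hh]⟩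

theorem unif_pconst {φ : Γ → ℂ} (hφ : PConst p H φ) : IsUnif H A R φ := by
  have := S.unif_mul hφ S.unif_one
  rwa [mul_one] at this

theorem rst_pconst {φ : Γ → ℂ} (hφ : PConst p H φ) {T : Subgroup Γ} (hT : T ∈ A) :
    ∀ t ∈ T ⊓ H, rst H R T φ t = φ t := fun t ht => by
  have := S.rst_mul hT hφ 1 t
  rwa [mul_one, S.rst_one hT t ht, mul_one] at this

theorem pconst_eq_usum {φ : Γ → ℂ} (hφ : PConst p H φ) : ∀ h ∈ H, φ h = usum H A R (fun _ => φ) h :=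
  S.unif_eq_usum (S.unif_pconst hφ) fun _ hT => S.rst_pconst hφ hT

theorem pr_mul {φ : Γ → ℂ} (hφ : PConst p H φ) (f : Γ → ℂ) :
    ∀ h ∈ H, pr H A R (φ * f) h = φ h * pr H A R f h := fun h hh => by
  rw [pr, pr, S.mul_usum hφ _ h hh]
  exact S.usum_congr (fun T hT t _ => S.rst_mul hT hφ f t) h hh

end Sys

end Cfsg.Agent.DL.Uni
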